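import Mathlib

/-! The base polytope of a configuration of vectors. -/

namespace BasePolyLib

open Finset

/-- positivity of weighted sums from positivity on upper sets -/
theorem sum_mul_nonneg {ι : Type*} (d : ι → ℝ) : ∀ (k : ℕ) (s : Finset ι) (w : ι → ℝ), s.card ≤ k →
    (∀ j ∈ s, 0 ≤ w j) → (∀ t : ℝ, 0 ≤ t → 0 ≤ ∑ j ∈ s.filter (fun j => t < w j), d j) →
    0 ≤ ∑ j ∈ s, w j * d j := by
  classical
  intro k
  induction k with
  | zero => intro s w hs _ _; simp [Finset.card_eq_zero.1 (Nat.le_zero.1 hs)]
  | succ k ih =>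
    intro s w hs hw hd
    have h0 : ∑ j ∈ s, w j * d j = ∑ j ∈ s.filter (fun j => 0 < w j), w j * d j := by
      rw [Finset.sum_filter]
      refine Finset.sum_congr rfl fun j hj => ?_
      split_ifs with h
      · rfl
      · rw [le_antisymm (not_lt.1 h) (hw j hj), zero_mul]
    by_cases hne : (s.filter (fun j => 0 < w j)).Nonempty
    · obtain ⟨a, ha, hmin⟩ := Finset.exists_min_image _ w hne
      rw [h0]
      have ha' := Finset.mem_filter.1 ha
      have hsplit : ∑ j ∈ s.filter (fun j => 0 < w j), w j * d j =
          w a * (∑ j ∈ s.filter (fun j => 0 < w j), d j) +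
            ∑ j ∈ s.filter (fun j => w a < w j), (w j - w a) * d j := by
        have hsub : s.filter (fun j => w a < w j) ⊆ s.filter (fun j => 0 < w j) := fun j hj => by
          rw [Finset.mem_filter] at hj ⊢
          exact ⟨hj.1, ha'.2.trans hj.2⟩
        rw [Finset.sum_subset hsub (fun j hj hj' => ?_), Finset.mul_sum, ← Finset.sum_add_distrib]
        · exact Finset.sum_congr rfl fun j _ => by ring
        · have h1 := hmin j hj
          rw [Finset.mem_filter] at hj hj'
          have h2 : ¬ w a < w j := fun h => hj' ⟨hj.1, h⟩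
          rw [le_antisymm (not_lt.1 h2) h1, sub_self, zero_mul]
      rw [hsplit]
      refine add_nonneg (mul_nonneg ha'.2.le (hd 0 le_rfl)) (ih _ _ ?_ ?_ ?_)
      · have hlt : (s.filter (fun j => w a < w j)).card < s.card := Finset.card_lt_card
          (Finset.filter_ssubset.2 ⟨a, ha'.1, lt_irrefl _⟩)
        omega
      · intro j hj
        linarith [(Finset.mem_filter.1 hj).2]
      · intro t ht
        have heq : (s.filter (fun j => w a < w j)).filter (fun j => t < w j - w a) =
            s.filter (fun j => t + w a < w j) := by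
          rw [Finset.filter_filter]
          refine Finset.filter_congr fun j _ => ⟨fun h => by linarith [h.2], fun h => ⟨by linarith, by linarith⟩⟩
        rw [heq]
        exact hd _ (add_nonneg ht ha'.2.le)
    · rw [h0, Finset.not_nonempty_iff_eq_empty.1 hne]
      simp

variable {K V ι : Type*} [Field K] [AddCommGroup V] [Module K V] [FiniteDimensional K V]
  [Fintype ι] [DecidableEq ι] (x : ι → V)

/-- A set of indices giving a basis. -/
def IsBase (K : Type*) [Field K] [Module K V] (x : ι → V) (S : Finset ι) : Prop :=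
  S.card = Module.finrank K V ∧ LinearIndependent K (fun j : S => x j)

theorem linearIndepOn_of {S : Finset ι} (h : IsBase K x S) : LinearIndepOn K x (S : Set ι) := h.2

theorem isBase_of_extend {s t : Set ι} (hs : LinearIndepOn K x s) (hst : s ⊆ t)
    (ht : Submodule.span K (x '' t) = ⊤) :
    IsBase K x (hs.extend hst).toFinite.toFinset := by
  set e := hs.extend hst
  have hli : LinearIndepOn K x (e.toFinite.toFinset : Set ι) := by
    rw [Set.Finite.coe_toFinset]; exact hs.linearIndepOn_extend hst
  refine ⟨?_, hli⟩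
  have hspan : Submodule.span K (Set.range fun j : (e.toFinite.toFinset : Set ι) => x j) = ⊤ := by
    rw [show (fun j : (e.toFinite.toFinset : Set ι) => x j) = x ∘ Subtype.val from rfl, Set.range_comp,
      Subtype.range_coe, Set.Finite.coe_toFinset, hs.span_image_extend_eq_span_image hst, ht]
  have := finrank_span_eq_card hli.linearIndependent
  rw [hspan, finrank_top] at this
  rw [this]
  simp

theorem span_range_of_isBase {S : Finset ι} (h : IsBase K x S) : Submodule.span K (x '' (S : Set ι)) = ⊤ := by
  have h1 := finrank_span_eq_card (linearIndepOn_of x h).linearIndependent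
  refine Submodule.eq_top_of_finrank_eq ?_
  rw [show x '' (S : Set ι) = Set.range fun j : (S : Set ι) => x j by rw [Set.image_eq_range]]
  rw [h1, ← h.1]
  simp

/-- A maximum weight base spans every upper set. -/
theorem greedy (w : ι → ℝ) {B : Finset ι} (hB : IsBase K x B)
    (hmax : ∀ S, IsBase K x S → ∑ j ∈ S, w j ≤ ∑ j ∈ B, w j) (t : ℝ) {u : ι} (hu : t < w u) :
    x u ∈ Submodule.span K (x '' ((B.filter (fun j => t < w j) : Finset ι) : Set ι)) := by
  by_contra hnot
  set U := B.filter (fun j => t < w j)
  have huB : u ∉ B := fun h => hnot (Submodule.subset_span ⟨u, by simp [U, h, hu], rfl⟩)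
  have hUli : LinearIndepOn K x (U : Set ι) := (linearIndepOn_of x hB).mono (Finset.coe_subset.2 (Finset.filter_subset _ _))
  have hs : LinearIndepOn K x (insert u (U : Set ι)) :=
    (linearIndepOn_insert (fun h => huB (Finset.mem_filter.1 h).1)).2 ⟨hUli, hnot⟩
  have hst : insert u (U : Set ι) ⊆ insert u (B : Set ι) := Set.insert_subset_insert (Finset.coe_subset.2 (Finset.filter_subset _ _))
  have ht : Submodule.span K (x '' insert u (B : Set ι)) = ⊤ := by
    refine top_le_iff.1 ?_
    rw [← span_range_of_isBase x hB]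
    exact Submodule.span_mono (Set.image_mono (Set.subset_insert _ _))
  have hB' := isBase_of_extend x hs hst ht
  set B' := (hs.extend hst).toFinite.toFinset
  have hsub : B' ⊆ insert u B := fun j hj => by
    have := hs.extend_subset hst ((Set.Finite.mem_toFinset _).1 hj)
    simpa using this
  have huB' : u ∈ B' := (Set.Finite.mem_toFinset _).2 (hs.subset_extend hst (Set.mem_insert _ _))
  have hUB' : U ⊆ B' := fun j hj =>
    (Set.Finite.mem_toFinset _).2 (hs.subset_extend hst (Set.mem_insert_of_mem _ hj))
  have hcard : ((insert u B) \ B').card = 1 := by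
    rw [Finset.card_sdiff_of_subset hsub, Finset.card_insert_of_notMem huB, hB.1, hB'.1]
    omega
  obtain ⟨b, hb⟩ := Finset.card_eq_one.1 hcard
  have hbm : b ∈ (insert u B) \ B' := by rw [hb]; exact Finset.mem_singleton_self b
  rw [Finset.mem_sdiff] at hbm
  have hwb : w b ≤ t := by
    by_contra h
    have hbu : b ≠ u := fun h' => hbm.2 (h' ▸ huB')
    have hbB : b ∈ B := (Finset.mem_insert.1 hbm.1).resolve_left hbu
    exact hbm.2 (hUB' (Finset.mem_filter.2 ⟨hbB, not_le.1 h⟩))
  have h2 := Finset.sum_sdiff hsub (f := w)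
  rw [hb, Finset.sum_singleton, Finset.sum_insert huB] at h2
  linarith [hmax B' hB']

/-- the indicator vector -/
noncomputable def ind (S : Finset ι) : ι → ℝ := fun j => if j ∈ S then 1 else 0

theorem sum_mul_ind (w : ι → ℝ) (S : Finset ι) : ∑ j, w j * ind S j = ∑ j ∈ S, w j := by
  simp [ind, Finset.sum_ite_mem]

/-- The base polytope contains every point obeying the rank inequalities. -/
theorem mem_convexHull (hspan : Submodule.span K (Set.range x) = ⊤) (p : ι → ℝ)
    (htot : ∑ j, p j = Module.finrank K V)
    (hrank : ∀ U : Finset ι, ∑ j ∈ U, p j ≤ Module.finrank K (Submodule.span K (x '' (U : Set ι)))) :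
    p ∈ convexHull ℝ (ind '' {S | IsBase K x S}) := by
  classical
  by_contra hp
  have hfin : (ind '' {S : Finset ι | IsBase K x S}).Finite := (Set.toFinite _).image _
  obtain ⟨f, r, hfS, hfp⟩ := geometric_hahn_banach_closed_point (convex_convexHull ℝ _) (hfin.isClosed_convexHull ℝ) hp
  let w : ι → ℝ := fun j => f (Pi.single j 1)
  have hfy : ∀ y : ι → ℝ, f y = ∑ j, w j * y j := fun y => by
    conv_lhs => rw [pi_eq_sum_univ' y]
    rw [map_sum]
    refine Finset.sum_congr rfl fun j _ => ?_
    rw [map_smul, smul_eq_mul, mul_comm]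
  have hne : {S : Finset ι | IsBase K x S}.Nonempty :=
    ⟨_, isBase_of_extend x (linearIndepOn_empty K x) (Set.empty_subset Set.univ) (by rw [Set.image_univ, hspan])⟩
  obtain ⟨B, hB, hmax⟩ := Set.exists_max_image _ (fun S => ∑ j ∈ S, w j) (Set.toFinite _) hne
  have hb : ∑ j ∈ B, w j < ∑ j, w j * p j := by
    have := (hfS _ (subset_convexHull ℝ _ ⟨B, hB, rfl⟩)).trans hfp
    rwa [hfy, hfy, sum_mul_ind] at this
  let d : ι → ℝ := fun j => ind B j - p j
  have hd0 : ∑ j, d j = 0 := by
    have h1 := sum_mul_ind (fun _ => 1) B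
    simp at h1
    rw [Finset.sum_sub_distrib, htot, h1, hB.1, sub_self]
  obtain ⟨c, hc⟩ : ∃ c, ∀ j, c ≤ w j := by
    refine ⟨-∑ j, |w j|, fun j => ?_⟩
    have := Finset.single_le_sum (f := fun j => |w j|) (fun j _ => abs_nonneg _) (Finset.mem_univ j)
    linarith [neg_abs_le (w j)]
  have key := sum_mul_nonneg d (Finset.univ : Finset ι).card Finset.univ (fun j => w j - c) le_rfl
    (fun j _ => sub_nonneg.2 (hc j)) (fun t _ => by
      have hd : ∑ j ∈ Finset.univ.filter (fun j => t < w j - c), d j =
          ((B.filter (fun j => t + c < w j)).card : ℝ) - ∑ j ∈ Finset.univ.filter (fun j => t < w j - c), p j := by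
        simp only [d, ind, Finset.sum_sub_distrib, Finset.sum_boole]
        congr 3
        ext j
        simp only [Finset.mem_filter, Finset.mem_univ, true_and]
        constructor
        · rintro ⟨h1, h2⟩; exact ⟨h2, by linarith⟩
        · rintro ⟨h1, h2⟩; exact ⟨by linarith, h1⟩
      rw [hd, sub_nonneg]
      refine (hrank _).trans (Nat.cast_le.2 ?_)
      refine le_trans (Submodule.finrank_mono
        (t := Submodule.span K (x '' ((B.filter (fun j => t + c < w j) : Finset ι) : Set ι))) (Submodule.span_le.2 ?_)) ?_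
      · rintro _ ⟨u, hu, rfl⟩
        have hu' : t < w u - c := (Finset.mem_filter.1 hu).2
        exact greedy x w hB hmax (t + c) (by linarith)
      · rw [← Finset.coe_image]
        exact (finrank_span_finset_le_card _).trans Finset.card_image_le)
  have : ∑ j, (w j - c) * d j = ∑ j ∈ B, w j - ∑ j, w j * p j := by
    rw [← sum_mul_ind w B, ← Finset.sum_sub_distrib]
    simp only [sub_mul, Finset.sum_sub_distrib, ← Finset.mul_sum, hd0, mul_zero, sub_zero]
    rw [← Finset.sum_sub_distrib]
    exact Finset.sum_congr rfl fun j _ => by simp only [d]; ring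
  linarith

/-- Rational points of the base polytope are averages of bases. -/
theorem exists_multiset (hn : 0 < Module.finrank K V) (p : ι → ℚ)
    (hp : (fun j => (p j : ℝ)) ∈ convexHull ℝ (ind '' {S | IsBase K x S})) :
    ∃ D : ℕ, 0 < D ∧ ∀ q : ℕ, ∃ P : Multiset (Finset ι), (∀ S ∈ P, IsBase K x S) ∧
      ∀ j, (Multiset.card (P.filter (fun S => j ∈ S)) : ℚ) = q * D * p j := by
  classical
  obtain ⟨T, _, z, wt, hz, hai, hpos, hsum, hcomb⟩ := eq_pos_convex_span_of_mem_convexHull hp
  choose B hB hBz using fun i => hz (Set.mem_range_self i)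
  have hli : ∀ g : T → ℝ, ∑ i, g i • z i = 0 → ∀ i, g i = 0 := by
    intro g hg i
    have h1 : ∑ i, g i * (Module.finrank K V : ℝ) = 0 := by
      have := congrArg (fun y : ι → ℝ => ∑ j, y j) hg
      simp only [Finset.sum_apply, Pi.smul_apply, smul_eq_mul, Pi.zero_apply, Finset.sum_const_zero] at this
      rw [Finset.sum_comm] at this
      convert this using 2 with i
      rw [← Finset.mul_sum, ← hBz i]
      have h1 := sum_mul_ind (fun _ => 1) (B i)
      simp at h1
      rw [h1, (hB i).1]
    rw [← Finset.sum_mul, mul_eq_zero] at h1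
    exact affineIndependent_iff.1 hai Finset.univ g (h1.resolve_right (by exact_mod_cast hn.ne')) hg i (Finset.mem_univ i)
  obtain ⟨π, hπ⟩ := LinearMap.exists_leftInverse_of_injective (Algebra.linearMap ℚ ℝ)
    (LinearMap.ker_eq_bot.2 Rat.cast_injective)
  have hπq : ∀ q : ℚ, π (q : ℝ) = q := fun q => by
    simpa using congrArg (fun l : ℚ →ₗ[ℚ] ℚ => l q) hπ
  have hval : ∀ j, ∑ i, (if j ∈ B i then wt i else 0) = (p j : ℝ) := fun j => by
    have := congrFun hcomb j
    simp only [Finset.sum_apply, Pi.smul_apply, smul_eq_mul] at this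
    rw [← this]
    exact Finset.sum_congr rfl fun i _ => by rw [← hBz i]; simp [ind]
  have hvalq : ∀ j, ∑ i, (if j ∈ B i then π (wt i) else 0) = p j := fun j => by
    rw [← hπq (p j), ← hval j, map_sum]
    exact Finset.sum_congr rfl fun i _ => by rw [apply_ite π, map_zero]
  have hrat : ∀ i, wt i = ((π (wt i) : ℚ) : ℝ) := by
    intro i
    refine sub_eq_zero.1 (hli (fun i => wt i - ((π (wt i) : ℚ) : ℝ)) ?_ i)
    funext j
    simp only [Finset.sum_apply, Pi.smul_apply, smul_eq_mul, Pi.zero_apply, sub_mul, Finset.sum_sub_distrib]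
    rw [sub_eq_zero]
    calc ∑ i, wt i * z i j = (p j : ℝ) := by
          rw [← hval j]; exact Finset.sum_congr rfl fun i _ => by rw [← hBz i]; simp [ind]
      _ = _ := by
          rw [← hvalq j, Rat.cast_sum]
          exact Finset.sum_congr rfl fun i _ => by rw [← hBz i]; simp [ind, apply_ite (fun q : ℚ => (q : ℝ))]
  refine ⟨∏ i, (π (wt i)).den, Finset.prod_pos fun i _ => (π (wt i)).den_pos, fun q => ?_⟩
  have hnn : ∀ i, 0 ≤ π (wt i) := fun i => by
    have h := (hpos i).le
    rw [hrat i] at h
    exact_mod_cast h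
  let a : T → ℕ := fun i => q * ((∏ i' ∈ Finset.univ.erase i, (π (wt i')).den) * (π (wt i)).num.toNat)
  have ha : ∀ i, (a i : ℚ) = q * (∏ i', (π (wt i')).den : ℕ) * π (wt i) := fun i => by
    rw [← Finset.mul_prod_erase _ _ (Finset.mem_univ i)]
    have hnum : ((π (wt i)).num.toNat : ℚ) = π (wt i) * (π (wt i)).den := by
      rw [Rat.mul_den_eq_num]
      exact_mod_cast Int.toNat_of_nonneg (Rat.num_nonneg.2 (hnn i))
    simp only [a, Nat.cast_mul]
    rw [hnum]
    ring
  refine ⟨∑ i, Multiset.replicate (a i) (B i), fun S hS => ?_, fun j => ?_⟩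
  · obtain ⟨i, -, hi⟩ := Multiset.mem_sum.1 hS
    rw [Multiset.eq_of_mem_replicate hi]
    exact hB i
  · have : Multiset.card ((∑ i, Multiset.replicate (a i) (B i)).filter (fun S => j ∈ S)) =
        ∑ i, if j ∈ B i then a i else 0 := by
      induction (Finset.univ : Finset T) using Finset.induction with
      | empty => simp
      | insert i s his ih =>
        rw [Finset.sum_insert his, Finset.sum_insert his, Multiset.filter_add, Multiset.card_add, ih]
        congr 1
        split_ifs with h
        · rw [Multiset.filter_eq_self.2 (fun S hS => by rw [Multiset.eq_of_mem_replicate hS]; exact h),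
            Multiset.card_replicate]
        · rw [Multiset.filter_eq_nil.2 (fun S hS => by rw [Multiset.eq_of_mem_replicate hS]; exact h)]
          rfl
    rw [this, Nat.cast_sum, ← hvalq j, Finset.mul_sum]
    refine Finset.sum_congr rfl fun i _ => ?_
    split_ifs
    · exact ha i
    · simp

end BasePolyLib
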